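import Cfsg.Agent.H18.NTm.D

/-! Generated by tools/h16 (computation kit). -/

set_option maxRecDepth 100000
set_option maxHeartbeats 0

namespace H18.NT

open H16

theorem pT_0 : allZ (pEnt) (nat_lit 0) (nat_lit 384) = true := by decide +kernel
theorem pT_1 : allZ (pEnt) (nat_lit 384) (nat_lit 384) = true := by decide +kernel
theorem pT_2 : allZ (pEnt) (nat_lit 768) (nat_lit 256) = true := by decide +kernel
theorem iv2 : ivChk R2 6 = true := by decide +kernel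
theorem tcb2e_a : allZ2 (ent2 Tb2 Eb2 (selR RLb2 Ib2) Db2 (nat_lit 3) (nat_lit 4) (nat_lit 4) (nat_lit 4) (nat_lit 2) (nat_lit 15) (nat_lit 0)) (nat_lit 2) (nat_lit 4) = true := by decide +kernel
theorem tcb2p_0 : allZ (eps2 Tb2 Eb2 Jb2 Wb2 RLb2 (nat_lit 3) (nat_lit 4) (nat_lit 4) (nat_lit 2) (nat_lit 0)) (nat_lit 0) (nat_lit 0) = true := by decide +kernel
theorem tcb2r : rulesChk R2 cb2.Sl RLb2 (nat_lit 2) = true := by decide +kernel
theorem tcb2n : 0 < cb2.M ∧ cb2.n0 ≤ cb2.M ∧ 0 < cb2.K ∧ cb2.K ≤ 6 ∧ cb2.D 0 = 0 := by decide +kernel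
theorem tcb2q : cb2.M - cb2.n = 0 := by decide +kernel
theorem stb2 : H16.allL (ltAll 0) cb2.Sl = true ∧ 0 < cb2.n0 ∧ cb2.K = 2 ∧ cb2.n0 * 1 = 4 := by decide +kernel
theorem tcb4e_a : allZ2 (ent2 Tb4 Eb4 (selR RLb4 Ib4) Db4 (nat_lit 255) (nat_lit 256) (nat_lit 256) (nat_lit 256) (nat_lit 4) (nat_lit 2047) (nat_lit 0)) (nat_lit 4) (nat_lit 256) = true := by decide +kernel
theorem tcb4p_0 : allZ (eps2 Tb4 Eb4 Jb4 Wb4 RLb4 (nat_lit 255) (nat_lit 256) (nat_lit 256) (nat_lit 4) (nat_lit 0)) (nat_lit 0) (nat_lit 0) = true := by decide +kernel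
theorem tcb4r : rulesChk R2 cb4.Sl RLb4 (nat_lit 4) = true := by decide +kernel
theorem tcb4n : 0 < cb4.M ∧ cb4.n0 ≤ cb4.M ∧ 0 < cb4.K ∧ cb4.K ≤ 6 ∧ cb4.D 0 = 0 := by decide +kernel
theorem tcb4q : cb4.M - cb4.n = 0 := by decide +kernel
theorem stb4 : H16.allL (ltAll 2) cb4.Sl = true ∧ 0 < cb4.n0 ∧ cb4.K = 4 ∧ cb4.n0 * 4 = 1024 := by decide +kernel
theorem tcb5e_a : allZ2 (ent2 Tb5 Eb5 (selR RLb5 Ib5) Db5 (nat_lit 1) (nat_lit 2) (nat_lit 2) (nat_lit 2) (nat_lit 5) (nat_lit 15) (nat_lit 0)) (nat_lit 5) (nat_lit 2) = true := by decide +kernel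
theorem tcb5p_0 : allZ (eps2 Tb5 Eb5 Jb5 Wb5 RLb5 (nat_lit 1) (nat_lit 2) (nat_lit 2) (nat_lit 5) (nat_lit 0)) (nat_lit 0) (nat_lit 0) = true := by decide +kernel
theorem tcb5r : rulesChk R2 cb5.Sl RLb5 (nat_lit 5) = true := by decide +kernel
theorem tcb5n : 0 < cb5.M ∧ cb5.n0 ≤ cb5.M ∧ 0 < cb5.K ∧ cb5.K ≤ 6 ∧ cb5.D 0 = 0 := by decide +kernel
theorem tcb5q : cb5.M - cb5.n = 0 := by decide +kernel
theorem stb5 : H16.allL (ltAll 4) cb5.Sl = true ∧ 0 < cb5.n0 ∧ cb5.K = 5 ∧ cb5.n0 * 1024 = 2048 := by decide +kernel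
theorem tcb6e_a : allZ2 (ent2 Tb6 Eb6 (selR RLb6 Ib6) Db6 (nat_lit 3) (nat_lit 3) (nat_lit 3) (nat_lit 3) (nat_lit 6) (nat_lit 31) (nat_lit 0)) (nat_lit 6) (nat_lit 3) = true := by decide +kernel
theorem tcb6p_0 : allZ (eps2 Tb6 Eb6 Jb6 Wb6 RLb6 (nat_lit 3) (nat_lit 3) (nat_lit 3) (nat_lit 6) (nat_lit 0)) (nat_lit 0) (nat_lit 0) = true := by decide +kernel
theorem tcb6r : rulesChk R2 cb6.Sl RLb6 (nat_lit 6) = true := by decide +kernel
theorem tcb6n : 0 < cb6.M ∧ cb6.n0 ≤ cb6.M ∧ 0 < cb6.K ∧ cb6.K ≤ 6 ∧ cb6.D 0 = 0 := by decide +kernel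
theorem tcb6q : cb6.M - cb6.n = 0 := by decide +kernel
theorem stb6 : H16.allL (ltAll 5) cb6.Sl = true ∧ 0 < cb6.n0 ∧ cb6.K = 6 ∧ cb6.n0 * 2048 = 6144 := by decide +kernel
theorem R2c : H16.allL (fun r => eq1c (rlW σ2 r) []) R2a = true ∧ H16.allL (fun r => eq1c (rlW σ2 r) []) R2b = true := by decide +kernel
theorem sT : allZ (fun i => Nat.add (Nat.xor (evI [nat_lit 128, nat_lit 144, nat_lit 512, nat_lit 768] (nth [] TW i)) (nth (nat_lit 0) ims i)) (Nat.xor (mu (nth (nat_lit 0) imr i) (nat_lit 640)) (mu (nat_lit 640) (io (nth (nat_lit 0) ims i))))) 0 10 = true ∧ H16.allL (fun i => Nat.shiftRight i (nat_lit 10)) imr = true := by decide +kernel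
theorem bT_0 : allZ (bEnt) (nat_lit 0) (nat_lit 2048) = true := by decide +kernel
theorem RTc : H16.allL (fun r => eq1c (rlW σT r) []) RTa = true ∧ H16.allL (fun r => eq1c (rlW σT r) []) RTb = true ∧ allZ (fun i => Nat.add (ltAll (nat_lit 9) (nth [] CW i)) (eq1c (rlW σT (nth [] CW i)) (wdN (nth (nat_lit 0) Ci i) (nat_lit 11)))) 0 4 = true := by decide +kernel
theorem RT0e : neL (relW (nth [] CW 0)) RT0r = 0 := by decide +kernel
theorem ivT0 : ivChk RT0x 9 = true := by decide +kernel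
theorem tck0e_a : allZ2 (ent2 Tk0 Ek0 (selR RLk0 Ik0) Dk0 (nat_lit 2047) (nat_lit 517) (nat_lit 0) (nat_lit 1088) (nat_lit 9) (nat_lit 16383) (nat_lit 6)) (nat_lit 9) (nat_lit 1088) = true := by decide +kernel
theorem tck0p_0 : allZ (eps2 Tk0 Ek0 Jk0 Wk0 RLk0 (nat_lit 2047) (nat_lit 517) (nat_lit 1088) (nat_lit 9) (nat_lit 6)) (nat_lit 0) (nat_lit 571) = true := by decide +kernel
theorem tck0r : rulesChk RT0x ck0.Sl RLk0 (nat_lit 9) = true := by decide +kernel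
theorem tck0n : 0 < ck0.M ∧ ck0.n0 ≤ ck0.M ∧ 0 < ck0.K ∧ ck0.K ≤ 9 ∧ ck0.D 0 = 0 := by decide +kernel
theorem tck0q : ck0.M - ck0.n = 571 := by decide +kernel
theorem gk0 : H16.allL (ltAll 8) ck0.Sl = true ∧ ck0.goal [nat_lit 8] = 0 := by decide +kernel
theorem RT1e : neL (relW (nth [] CW 1)) RT1r = 0 := by decide +kernel
theorem ivT1 : ivChk RT1x 9 = true := by decide +kernel
theorem tct2e_a : allZ2 (ent2 Tt2 Et2 (selR RLt2 It2) Dt2 (nat_lit 3) (nat_lit 4) (nat_lit 4) (nat_lit 4) (nat_lit 2) (nat_lit 15) (nat_lit 0)) (nat_lit 2) (nat_lit 4) = true := by decide +kernel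
theorem tct2p_0 : allZ (eps2 Tt2 Et2 Jt2 Wt2 RLt2 (nat_lit 3) (nat_lit 4) (nat_lit 4) (nat_lit 2) (nat_lit 0)) (nat_lit 0) (nat_lit 0) = true := by decide +kernel
theorem tct2r : rulesChk RT1x ct2.Sl RLt2 (nat_lit 2) = true := by decide +kernel
theorem tct2n : 0 < ct2.M ∧ ct2.n0 ≤ ct2.M ∧ 0 < ct2.K ∧ ct2.K ≤ 9 ∧ ct2.D 0 = 0 := by decide +kernel
theorem tct2q : ct2.M - ct2.n = 0 := by decide +kernel
theorem stt2 : H16.allL (ltAll 0) ct2.Sl = true ∧ 0 < ct2.n0 ∧ ct2.K = 2 ∧ ct2.n0 * 1 = 4 := by decide +kernel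
theorem tct4e_a : allZ2 (ent2 Tt4 Et4 (selR RLt4 It4) Dt4 (nat_lit 7) (nat_lit 5) (nat_lit 5) (nat_lit 6) (nat_lit 4) (nat_lit 31) (nat_lit 1)) (nat_lit 4) (nat_lit 6) = true := by decide +kernel
theorem tct4p_0 : allZ (eps2 Tt4 Et4 Jt4 Wt4 RLt4 (nat_lit 7) (nat_lit 5) (nat_lit 6) (nat_lit 4) (nat_lit 1)) (nat_lit 0) (nat_lit 1) = true := by decide +kernel
theorem tct4r : rulesChk RT1x ct4.Sl RLt4 (nat_lit 4) = true := by decide +kernel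
theorem tct4n : 0 < ct4.M ∧ ct4.n0 ≤ ct4.M ∧ 0 < ct4.K ∧ ct4.K ≤ 9 ∧ ct4.D 0 = 0 := by decide +kernel
theorem tct4q : ct4.M - ct4.n = 1 := by decide +kernel
theorem stt4 : H16.allL (ltAll 2) ct4.Sl = true ∧ 0 < ct4.n0 ∧ ct4.K = 4 ∧ ct4.n0 * 4 = 20 := by decide +kernel
theorem tct8e_a : allZ2 (ent2 Tt8 Et8 (selR RLt8 It8) Dt8 (nat_lit 1023) (nat_lit 512) (nat_lit 512) (nat_lit 552) (nat_lit 8) (nat_lit 8191) (nat_lit 2)) (nat_lit 8) (nat_lit 552) = true := by decide +kernel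
theorem tct8p_0 : allZ (eps2 Tt8 Et8 Jt8 Wt8 RLt8 (nat_lit 1023) (nat_lit 512) (nat_lit 552) (nat_lit 8) (nat_lit 2)) (nat_lit 0) (nat_lit 40) = true := by decide +kernel
theorem tct8r : rulesChk RT1x ct8.Sl RLt8 (nat_lit 8) = true := by decide +kernel
theorem tct8n : 0 < ct8.M ∧ ct8.n0 ≤ ct8.M ∧ 0 < ct8.K ∧ ct8.K ≤ 9 ∧ ct8.D 0 = 0 := by decide +kernel
theorem tct8q : ct8.M - ct8.n = 40 := by decide +kernel
theorem stt8 : H16.allL (ltAll 4) ct8.Sl = true ∧ 0 < ct8.n0 ∧ ct8.K = 8 ∧ ct8.n0 * 20 = 10240 := by decide +kernel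
theorem tct9e_0_0 : allZ (ent2 Tt9 Et9 (selR RLt9 It9) Dt9 (nat_lit 4095) (nat_lit 1755) (nat_lit 1755) (nat_lit 2975) (nat_lit 9) (nat_lit 32767) (nat_lit 3) (nat_lit 0)) (nat_lit 0) (nat_lit 2975) = true := by decide +kernel
theorem tct9e_1_0 : allZ (ent2 Tt9 Et9 (selR RLt9 It9) Dt9 (nat_lit 4095) (nat_lit 1755) (nat_lit 1755) (nat_lit 2975) (nat_lit 9) (nat_lit 32767) (nat_lit 3) (nat_lit 1)) (nat_lit 0) (nat_lit 2975) = true := by decide +kernel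
theorem tct9e_2_0 : allZ (ent2 Tt9 Et9 (selR RLt9 It9) Dt9 (nat_lit 4095) (nat_lit 1755) (nat_lit 1755) (nat_lit 2975) (nat_lit 9) (nat_lit 32767) (nat_lit 3) (nat_lit 2)) (nat_lit 0) (nat_lit 2975) = true := by decide +kernel
theorem tct9e_3_0 : allZ (ent2 Tt9 Et9 (selR RLt9 It9) Dt9 (nat_lit 4095) (nat_lit 1755) (nat_lit 1755) (nat_lit 2975) (nat_lit 9) (nat_lit 32767) (nat_lit 3) (nat_lit 3)) (nat_lit 0) (nat_lit 2975) = true := by decide +kernel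
theorem tct9e_4_0 : allZ (ent2 Tt9 Et9 (selR RLt9 It9) Dt9 (nat_lit 4095) (nat_lit 1755) (nat_lit 1755) (nat_lit 2975) (nat_lit 9) (nat_lit 32767) (nat_lit 3) (nat_lit 4)) (nat_lit 0) (nat_lit 2975) = true := by decide +kernel
theorem tct9e_5_0 : allZ (ent2 Tt9 Et9 (selR RLt9 It9) Dt9 (nat_lit 4095) (nat_lit 1755) (nat_lit 1755) (nat_lit 2975) (nat_lit 9) (nat_lit 32767) (nat_lit 3) (nat_lit 5)) (nat_lit 0) (nat_lit 2975) = true := by decide +kernel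
theorem tct9e_6_0 : allZ (ent2 Tt9 Et9 (selR RLt9 It9) Dt9 (nat_lit 4095) (nat_lit 1755) (nat_lit 1755) (nat_lit 2975) (nat_lit 9) (nat_lit 32767) (nat_lit 3) (nat_lit 6)) (nat_lit 0) (nat_lit 2975) = true := by decide +kernel
theorem tct9e_7_0 : allZ (ent2 Tt9 Et9 (selR RLt9 It9) Dt9 (nat_lit 4095) (nat_lit 1755) (nat_lit 1755) (nat_lit 2975) (nat_lit 9) (nat_lit 32767) (nat_lit 3) (nat_lit 7)) (nat_lit 0) (nat_lit 2975) = true := by decide +kernel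
theorem tct9e_8_0 : allZ (ent2 Tt9 Et9 (selR RLt9 It9) Dt9 (nat_lit 4095) (nat_lit 1755) (nat_lit 1755) (nat_lit 2975) (nat_lit 9) (nat_lit 32767) (nat_lit 3) (nat_lit 8)) (nat_lit 0) (nat_lit 2975) = true := by decide +kernel
theorem tct9p_0 : allZ (eps2 Tt9 Et9 Jt9 Wt9 RLt9 (nat_lit 4095) (nat_lit 1755) (nat_lit 2975) (nat_lit 9) (nat_lit 3)) (nat_lit 0) (nat_lit 1220) = true := by decide +kernel
theorem tct9r : rulesChk RT1x ct9.Sl RLt9 (nat_lit 9) = true := by decide +kernel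
theorem tct9n : 0 < ct9.M ∧ ct9.n0 ≤ ct9.M ∧ 0 < ct9.K ∧ ct9.K ≤ 9 ∧ ct9.D 0 = 0 := by decide +kernel
theorem tct9q : ct9.M - ct9.n = 1220 := by decide +kernel
theorem stt9 : H16.allL (ltAll 8) ct9.Sl = true ∧ 0 < ct9.n0 ∧ ct9.K = 9 ∧ ct9.n0 * 10240 = 17971200 := by decide +kernel
theorem RTm : H16.allL (fixL (rl σT H) 9 H15.Tits.B) RT1x = true := by decide +kernel
theorem RT2e : neL (relW (nth [] CW 2)) RT2r = 0 := by decide +kernel
theorem ivT2 : ivChk RT2x 9 = true := by decide +kernel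
theorem tck2e_a : allZ2 (ent2 Tk2 Ek2 (selR RLk2 Ik2) Dk2 (nat_lit 2047) (nat_lit 681) (nat_lit 0) (nat_lit 1205) (nat_lit 9) (nat_lit 16383) (nat_lit 11)) (nat_lit 9) (nat_lit 1205) = true := by decide +kernel
theorem tck2p_0 : allZ (eps2 Tk2 Ek2 Jk2 Wk2 RLk2 (nat_lit 2047) (nat_lit 681) (nat_lit 1205) (nat_lit 9) (nat_lit 11)) (nat_lit 0) (nat_lit 524) = true := by decide +kernel
theorem tck2r : rulesChk RT2x ck2.Sl RLk2 (nat_lit 9) = true := by decide +kernel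
theorem tck2n : 0 < ck2.M ∧ ck2.n0 ≤ ck2.M ∧ 0 < ck2.K ∧ ck2.K ≤ 9 ∧ ck2.D 0 = 0 := by decide +kernel
theorem tck2q : ck2.M - ck2.n = 524 := by decide +kernel
theorem gk2 : H16.allL (ltAll 8) ck2.Sl = true ∧ ck2.goal [nat_lit 8] = 0 := by decide +kernel
theorem RT3e : neL (relW (nth [] CW 3)) RT3r = 0 := by decide +kernel
theorem ivT3 : ivChk RT3x 9 = true := by decide +kernel
theorem tck3e_a : allZ2 (ent2 Tk3 Ek3 (selR RLk3 Ik3) Dk3 (nat_lit 2047) (nat_lit 674) (nat_lit 0) (nat_lit 1113) (nat_lit 9) (nat_lit 16383) (nat_lit 5)) (nat_lit 9) (nat_lit 1113) = true := by decide +kernel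
theorem tck3p_0 : allZ (eps2 Tk3 Ek3 Jk3 Wk3 RLk3 (nat_lit 2047) (nat_lit 674) (nat_lit 1113) (nat_lit 9) (nat_lit 5)) (nat_lit 0) (nat_lit 439) = true := by decide +kernel
theorem tck3r : rulesChk RT3x ck3.Sl RLk3 (nat_lit 9) = true := by decide +kernel
theorem tck3n : 0 < ck3.M ∧ ck3.n0 ≤ ck3.M ∧ 0 < ck3.K ∧ ck3.K ≤ 9 ∧ ck3.D 0 = 0 := by decide +kernel
theorem tck3q : ck3.M - ck3.n = 439 := by decide +kernel
theorem gk3 : H16.allL (ltAll 8) ck3.Sl = true ∧ ck3.goal [nat_lit 8] = 0 := by decide +kernel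
theorem eT_0 : allZ (eEnt) (nat_lit 0) (nat_lit 2048) = true := by decide +kernel
theorem fxT : H16.allL fEnt FL = true ∧ allZ (fun q => force q fun q => ifz (Nat.xor (H (nat_lit 2) q) q) (memL q (nat_lit 0 :: nat_lit 147 :: nat_lit 1191 :: FL.map Prod.fst)) (nat_lit 0)) 0 1755 = true ∧ H 15 0 = 147 ∧ H 10 147 = 1191 ∧ H 0 147 = 147 ∧ H 0 2 ≠ 2 := by decide +kernel
theorem thA0 : allZ (fun i => Nat.add (Nat.sub (Nat.succ (nth (nat_lit 0) imt0 i)) (nat_lit 2048)) (eq1c (subW Ut0 (nth [] Ws i)) (wdN (nth (nat_lit 0) imt0 i) (nat_lit 11)))) 0 11 = true := by decide +kernel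
theorem thB0_0 : allZ (thE0) (nat_lit 0) (nat_lit 1664) = true := by decide +kernel
theorem thB0_1 : allZ (thE0) (nat_lit 1664) (nat_lit 384) = true := by decide +kernel
theorem thA1 : allZ (fun i => Nat.add (Nat.sub (Nat.succ (nth (nat_lit 0) imt1 i)) (nat_lit 2048)) (eq1c (subW Ut1 (nth [] Ws i)) (wdN (nth (nat_lit 0) imt1 i) (nat_lit 11)))) 0 11 = true := by decide +kernel
theorem thB1_0 : allZ (thE1) (nat_lit 0) (nat_lit 1664) = true := by decide +kernel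
theorem thB1_1 : allZ (thE1) (nat_lit 1664) (nat_lit 384) = true := by decide +kernel
theorem thC : eq1c (subW Ut3 (nth [] R1 9)) [nat_lit 0] = 0 := by decide +kernel
theorem beT_0 : allZ (beE) (nat_lit 0) (nat_lit 2048) = true := by decide +kernel

end H18.NT
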