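import Cfsg.Agent.H18.NTm.D

/-! Generated by tools/h16 (computation kit). -/

set_option maxRecDepth 100000
set_option maxHeartbeats 0

namespace H18.NT

open H16

theorem m0_0_0 : allZ (m0e (nat_lit 0)) (nat_lit 0) (nat_lit 1755) = true := by decide +kernel
theorem m0_1_0 : allZ (m0e (nat_lit 1)) (nat_lit 0) (nat_lit 1755) = true := by decide +kernel
theorem m0_2_0 : allZ (m0e (nat_lit 2)) (nat_lit 0) (nat_lit 1755) = true := by decide +kernel
theorem m0_3_0 : allZ (m0e (nat_lit 3)) (nat_lit 0) (nat_lit 1755) = true := by decide +kernel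
theorem m0_4_0 : allZ (m0e (nat_lit 4)) (nat_lit 0) (nat_lit 1755) = true := by decide +kernel
theorem m0_5_0 : allZ (m0e (nat_lit 5)) (nat_lit 0) (nat_lit 1755) = true := by decide +kernel
theorem m1_0_0 : allZ (m1e (nat_lit 0)) (nat_lit 0) (nat_lit 1755) = true := by decide +kernel
theorem m1_1_0 : allZ (m1e (nat_lit 1)) (nat_lit 0) (nat_lit 1755) = true := by decide +kernel
theorem m1_2_0 : allZ (m1e (nat_lit 2)) (nat_lit 0) (nat_lit 1755) = true := by decide +kernel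
theorem m1_3_0 : allZ (m1e (nat_lit 3)) (nat_lit 0) (nat_lit 1755) = true := by decide +kernel
theorem m1_4_0 : allZ (m1e (nat_lit 4)) (nat_lit 0) (nat_lit 1755) = true := by decide +kernel
theorem m1_5_0 : allZ (m1e (nat_lit 5)) (nat_lit 0) (nat_lit 1755) = true := by decide +kernel
theorem m1_6_0 : allZ (m1e (nat_lit 6)) (nat_lit 0) (nat_lit 1755) = true := by decide +kernel
theorem m1_7_0 : allZ (m1e (nat_lit 7)) (nat_lit 0) (nat_lit 1755) = true := by decide +kernel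
theorem m1_8_0 : allZ (m1e (nat_lit 8)) (nat_lit 0) (nat_lit 1755) = true := by decide +kernel
theorem m1_9_0 : allZ (m1e (nat_lit 9)) (nat_lit 0) (nat_lit 1755) = true := by decide +kernel
theorem m1_10_0 : allZ (m1e (nat_lit 10)) (nat_lit 0) (nat_lit 1755) = true := by decide +kernel
theorem m1_11_0 : allZ (m1e (nat_lit 11)) (nat_lit 0) (nat_lit 1755) = true := by decide +kernel
theorem m1_12_0 : allZ (m1e (nat_lit 12)) (nat_lit 0) (nat_lit 1755) = true := by decide +kernel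
theorem m1_13_0 : allZ (m1e (nat_lit 13)) (nat_lit 0) (nat_lit 1755) = true := by decide +kernel
theorem m1_14_0 : allZ (m1e (nat_lit 14)) (nat_lit 0) (nat_lit 1755) = true := by decide +kernel
theorem m1_15_0 : allZ (m1e (nat_lit 15)) (nat_lit 0) (nat_lit 1755) = true := by decide +kernel
theorem W0lt : H16.allL (ltAll 6) W0 = true ∧ allZ (fun k => ltAll 5 (nth [] W0 k)) 0 5 = true ∧ H16.allL (ltAll 6) Ws = true ∧ allZ (fun k => ltAll 5 (nth [] Ws k)) 0 15 = true := by decide +kernel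
theorem U0c : allZ (fun k => Nat.add (ltAll 16 (nth [] U0 k)) (sumL (fun b => Nat.xor (apW H (nth [] U0 k) b) (H15.Tits.P k b)) H15.Tits.B)) 0 6 = true ∧ allZ (fun k => ltAll 15 (nth [] U0 k)) 0 5 = true := by decide +kernel
theorem iv1 : ivChk R1 5 = true := by decide +kernel
theorem tca2e_a : allZ2 (ent2 Ta2 Ea2 (selR RLa2 Ia2) Da2 (nat_lit 3) (nat_lit 4) (nat_lit 4) (nat_lit 4) (nat_lit 2) (nat_lit 15) (nat_lit 0)) (nat_lit 2) (nat_lit 4) = true := by decide +kernel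
theorem tca2p_0 : allZ (eps2 Ta2 Ea2 Ja2 Wa2 RLa2 (nat_lit 3) (nat_lit 4) (nat_lit 4) (nat_lit 2) (nat_lit 0)) (nat_lit 0) (nat_lit 0) = true := by decide +kernel
theorem tca2r : rulesChk R1 ca2.Sl RLa2 (nat_lit 2) = true := by decide +kernel
theorem tca2n : 0 < ca2.M ∧ ca2.n0 ≤ ca2.M ∧ 0 < ca2.K ∧ ca2.K ≤ 5 ∧ ca2.D 0 = 0 := by decide +kernel
theorem tca2q : ca2.M - ca2.n = 0 := by decide +kernel
theorem sta2 : H16.allL (ltAll 0) ca2.Sl = true ∧ 0 < ca2.n0 ∧ ca2.K = 2 ∧ ca2.n0 * 1 = 4 := by decide +kernel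
theorem tca4e_a : allZ2 (ent2 Ta4 Ea4 (selR RLa4 Ia4) Da4 (nat_lit 7) (nat_lit 5) (nat_lit 5) (nat_lit 6) (nat_lit 4) (nat_lit 31) (nat_lit 1)) (nat_lit 4) (nat_lit 6) = true := by decide +kernel
theorem tca4p_0 : allZ (eps2 Ta4 Ea4 Ja4 Wa4 RLa4 (nat_lit 7) (nat_lit 5) (nat_lit 6) (nat_lit 4) (nat_lit 1)) (nat_lit 0) (nat_lit 1) = true := by decide +kernel
theorem tca4r : rulesChk R1 ca4.Sl RLa4 (nat_lit 4) = true := by decide +kernel
theorem tca4n : 0 < ca4.M ∧ ca4.n0 ≤ ca4.M ∧ 0 < ca4.K ∧ ca4.K ≤ 5 ∧ ca4.D 0 = 0 := by decide +kernel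
theorem tca4q : ca4.M - ca4.n = 1 := by decide +kernel
theorem sta4 : H16.allL (ltAll 2) ca4.Sl = true ∧ 0 < ca4.n0 ∧ ca4.K = 4 ∧ ca4.n0 * 4 = 20 := by decide +kernel
theorem tca5e_a : allZ2 (ent2 Ta5 Ea5 (selR RLa5 Ia5) Da5 (nat_lit 1023) (nat_lit 512) (nat_lit 512) (nat_lit 513) (nat_lit 5) (nat_lit 4095) (nat_lit 1)) (nat_lit 5) (nat_lit 513) = true := by decide +kernel
theorem tca5p_0 : allZ (eps2 Ta5 Ea5 Ja5 Wa5 RLa5 (nat_lit 1023) (nat_lit 512) (nat_lit 513) (nat_lit 5) (nat_lit 1)) (nat_lit 0) (nat_lit 1) = true := by decide +kernel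
theorem tca5r : rulesChk R1 ca5.Sl RLa5 (nat_lit 5) = true := by decide +kernel
theorem tca5n : 0 < ca5.M ∧ ca5.n0 ≤ ca5.M ∧ 0 < ca5.K ∧ ca5.K ≤ 5 ∧ ca5.D 0 = 0 := by decide +kernel
theorem tca5q : ca5.M - ca5.n = 1 := by decide +kernel
theorem sta5 : H16.allL (ltAll 4) ca5.Sl = true ∧ 0 < ca5.n0 ∧ ca5.K = 5 ∧ ca5.n0 * 20 = 10240 := by decide +kernel
theorem R1m : H16.allL (fixL (rl σ0 H) 6 H15.Tits.B) R1 = true := by decide +kernel
theorem tT_0_0 : allZ (tEnt (nat_lit 0)) (nat_lit 0) (nat_lit 1664) = true := by decide +kernel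
theorem tT_0_1 : allZ (tEnt (nat_lit 0)) (nat_lit 1664) (nat_lit 384) = true := by decide +kernel
theorem tT_1_0 : allZ (tEnt (nat_lit 1)) (nat_lit 0) (nat_lit 1664) = true := by decide +kernel
theorem tT_1_1 : allZ (tEnt (nat_lit 1)) (nat_lit 1664) (nat_lit 384) = true := by decide +kernel
theorem tT_2_0 : allZ (tEnt (nat_lit 2)) (nat_lit 0) (nat_lit 1664) = true := by decide +kernel
theorem tT_2_1 : allZ (tEnt (nat_lit 2)) (nat_lit 1664) (nat_lit 384) = true := by decide +kernel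
theorem tT_3_0 : allZ (tEnt (nat_lit 3)) (nat_lit 0) (nat_lit 1664) = true := by decide +kernel
theorem tT_3_1 : allZ (tEnt (nat_lit 3)) (nat_lit 1664) (nat_lit 384) = true := by decide +kernel
theorem tT_4_0 : allZ (tEnt (nat_lit 4)) (nat_lit 0) (nat_lit 1664) = true := by decide +kernel
theorem tT_4_1 : allZ (tEnt (nat_lit 4)) (nat_lit 1664) (nat_lit 384) = true := by decide +kernel
theorem tT_5_0 : allZ (tEnt (nat_lit 5)) (nat_lit 0) (nat_lit 1664) = true := by decide +kernel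
theorem tT_5_1 : allZ (tEnt (nat_lit 5)) (nat_lit 1664) (nat_lit 384) = true := by decide +kernel
theorem tT_6_0 : allZ (tEnt (nat_lit 6)) (nat_lit 0) (nat_lit 1664) = true := by decide +kernel
theorem tT_6_1 : allZ (tEnt (nat_lit 6)) (nat_lit 1664) (nat_lit 384) = true := by decide +kernel
theorem tT_7_0 : allZ (tEnt (nat_lit 7)) (nat_lit 0) (nat_lit 1664) = true := by decide +kernel
theorem tT_7_1 : allZ (tEnt (nat_lit 7)) (nat_lit 1664) (nat_lit 384) = true := by decide +kernel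
theorem tT_8_0 : allZ (tEnt (nat_lit 8)) (nat_lit 0) (nat_lit 1664) = true := by decide +kernel
theorem tT_8_1 : allZ (tEnt (nat_lit 8)) (nat_lit 1664) (nat_lit 384) = true := by decide +kernel
theorem tT_9_0 : allZ (tEnt (nat_lit 9)) (nat_lit 0) (nat_lit 1664) = true := by decide +kernel
theorem tT_9_1 : allZ (tEnt (nat_lit 9)) (nat_lit 1664) (nat_lit 384) = true := by decide +kernel
theorem tT_10_0 : allZ (tEnt (nat_lit 10)) (nat_lit 0) (nat_lit 1664) = true := by decide +kernel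
theorem tT_10_1 : allZ (tEnt (nat_lit 10)) (nat_lit 1664) (nat_lit 384) = true := by decide +kernel
theorem iT_0 : allZ (iEnt) (nat_lit 0) (nat_lit 1664) = true := by decide +kernel
theorem iT_1 : allZ (iEnt) (nat_lit 1664) (nat_lit 384) = true := by decide +kernel
theorem dT : allZ2 dEnt 5 5 = true := by decide +kernel
theorem fT : allZ (fun i => ifz (Nat.xor (Nat.shiftRight i (nat_lit 1)) (nat_lit 4)) (nat_lit 0) (Nat.add (Nat.sub (Nat.succ (nth (nat_lit 0) imf i)) (nat_lit 2048)) (eq1c [i, nat_lit 13] (nat_lit 13 :: wdN (nth (nat_lit 0) imf i) (nat_lit 11))))) 0 11 = true := by decide +kernel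
theorem nT_0 : allZ (nEnt) (nat_lit 0) (nat_lit 960) = true := by decide +kernel
theorem nT_1 : allZ (nEnt) (nat_lit 960) (nat_lit 960) = true := by decide +kernel
theorem nT_2 : allZ (nEnt) (nat_lit 1920) (nat_lit 128) = true := by decide +kernel
theorem rT : allZ rEnt 0 18 = true := by decide +kernel
theorem cT_0 : allZ (cEnt) (nat_lit 0) (nat_lit 2048) = true := by decide +kernel
theorem twT : allZ (fun i => Nat.add (ltAll (nat_lit 4) (nth [] TW i)) (Nat.xor (evI [nat_lit 512, nat_lit 768, nat_lit 128, nat_lit 144] (nth [] TW i)) (Nat.pow (nat_lit 2) i))) 0 10 = true ∧ H16.allL (fun r => Nat.add (ltAll (nat_lit 4) r) (evI [nat_lit 512, nat_lit 768, nat_lit 128, nat_lit 144] r)) RQ = true ∧ Iv 512 = 768 ∧ Iv 128 = 144 := by decide +kernel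

end H18.NT
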